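/-
Helper56 library: the letters for the elements of `Fi22`: the generators and the longer
generators of the stabiliser chain, each with a packed permutation table on the 3510 points.
-/
import Cfsg.Agent.Helper56.Fi22.Base
import Cfsg.Agent.Helper56.Fi22.LData
import Cfsg.Agent.Helper56.Fi.Common

set_option autoImplicit false

namespace Cfsg.Agent.Helper56.Fi22Out

open Cfsg.Agent.Helper28 Cfsg.Agent.Helper56.FiOut

/-- entry `i` of a packed table -/
def tabAt (N i : ℕ) : ℕ := Nat.land (Nat.shiftRight N (Nat.mul 12 i)) 4095

/-- the table of the letter `k` -/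
noncomputable def TQ (k i : ℕ) : ℕ := cond (Nat.blt k 19) (tabAt (nthN LT k) i) i

/-- the value of the letter `k` -/
noncomputable def lval (k : ℕ) : Cfsg.Spor.Fi22 := wv (nthL LW k)

/-- check of the table of a letter at a point: a generator against the table of helper28, a
longer letter against the tables of the generators -/
noncomputable def letTabChk (k i : ℕ) : Bool :=
  Nat.ble 3510 i || cond (Nat.blt k 9) (Nat.beq (C1687.T k i) (tabAt (nthN LT k) i))
    (Nat.beq (walkA TQ (nthL LW k) i) (tabAt (nthN LT k) i))

end Cfsg.Agent.Helper56.Fi22Out
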