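/-
Helper56 library: kernel checks of the permutation tables of the letters of `Fi22`.
-/
import Cfsg.Agent.Helper56.Fi22.LetDefs

set_option autoImplicit false

namespace Cfsg.Agent.Helper56.Fi22Out

open Cfsg.Agent.Helper28 Cfsg.Agent.Helper56.FiOut

theorem let_0 : rgAll (letTabChk 0) 12 (2 ^ 12 * 0) = true := by decide +kernel
theorem let_1 : rgAll (letTabChk 1) 12 (2 ^ 12 * 0) = true := by decide +kernel
theorem let_2 : rgAll (letTabChk 2) 12 (2 ^ 12 * 0) = true := by decide +kernel
theorem let_3 : rgAll (letTabChk 3) 12 (2 ^ 12 * 0) = true := by decide +kernel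
theorem let_4 : rgAll (letTabChk 4) 12 (2 ^ 12 * 0) = true := by decide +kernel
theorem let_5 : rgAll (letTabChk 5) 12 (2 ^ 12 * 0) = true := by decide +kernel
theorem let_6 : rgAll (letTabChk 6) 12 (2 ^ 12 * 0) = true := by decide +kernel
theorem let_7 : rgAll (letTabChk 7) 12 (2 ^ 12 * 0) = true := by decide +kernel
theorem let_8 : rgAll (letTabChk 8) 12 (2 ^ 12 * 0) = true := by decide +kernel
theorem let_9 : rgAll (letTabChk 9) 12 (2 ^ 12 * 0) = true := by decide +kernel
theorem let_10 : rgAll (letTabChk 10) 12 (2 ^ 12 * 0) = true := by decide +kernel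
theorem let_11 : rgAll (letTabChk 11) 12 (2 ^ 12 * 0) = true := by decide +kernel
theorem let_12 : rgAll (letTabChk 12) 12 (2 ^ 12 * 0) = true := by decide +kernel
theorem let_13 : rgAll (letTabChk 13) 12 (2 ^ 12 * 0) = true := by decide +kernel
theorem let_14 : rgAll (letTabChk 14) 12 (2 ^ 12 * 0) = true := by decide +kernel
theorem let_15 : rgAll (letTabChk 15) 12 (2 ^ 12 * 0) = true := by decide +kernel
theorem let_16 : rgAll (letTabChk 16) 12 (2 ^ 12 * 0) = true := by decide +kernel
theorem let_17 : rgAll (letTabChk 17) 12 (2 ^ 12 * 0) = true := by decide +kernel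
theorem let_18 : rgAll (letTabChk 18) 12 (2 ^ 12 * 0) = true := by decide +kernel

theorem letTab_all (k : ℕ) (hk : k < 19) (i : ℕ) (hi : i < 3510) : letTabChk k i = true := by
  have h : rgAll (letTabChk k) 12 (2 ^ 12 * 0) = true := by
    interval_cases k
    · exact let_0
    · exact let_1
    · exact let_2
    · exact let_3
    · exact let_4
    · exact let_5
    · exact let_6
    · exact let_7
    · exact let_8
    · exact let_9
    · exact let_10
    · exact let_11
    · exact let_12
    · exact let_13
    · exact let_14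
    · exact let_15
    · exact let_16
    · exact let_17
    · exact let_18
  exact rgAll_spec _ _ _ h i (by omega) (by norm_num; omega)

end Cfsg.Agent.Helper56.Fi22Out
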