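/-
Helper56 library: kernel-checkable certificates for the elements `h` of `Fi22` with
`h * s = s' * h`, where five points of one cycle of `s` are the images of a base of the
stabiliser chain: such an `h` is determined by the image `y` of one point, and for each `y`
a certificate names the element, or shows through the exact orbits of the chain that no
element of the group has the required images.
-/
import Cfsg.Agent.Helper56.Fi22.ChkLet

set_option autoImplicit false

namespace Cfsg.Agent.Helper56.Fi22Out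

open Cfsg.Agent.Helper28 Cfsg.Agent.Helper56.FiOut

/-! ### the letters -/

theorem lw_gen : ∀ k, k < 9 → nthL LW k = [k] := by
  intro k hk
  interval_cases k <;> rfl

theorem lw_mac : ∀ k, k < 19 → letChk 9 (nthL LW k) = true := by
  intro k hk
  interval_cases k <;> decide +kernel

theorem lw_nil : ∀ k, 19 ≤ k → k < 31 → nthL LW k = [] := by
  intro k h1 h2
  interval_cases k <;> rfl

theorem gen_tab (k : ℕ) (hk : k < 9) (i : ℕ) (hi : i < 3510) : C1687.T k i = TQ k i := by
  have c := letTab_all k (by omega) i hi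
  unfold letTabChk at c
  rw [Bool.or_eq_true] at c
  rcases c with c | c
  · exact absurd (Nat.le_of_ble_eq_true c) (by omega)
  · rw [blt_true_of_lt hk, cond_true] at c
    unfold TQ
    rw [blt_true_of_lt (show k < 19 by omega), cond_true]
    exact Nat.eq_of_beq_eq_true c

theorem walk_gen (l : List ℕ) (hl : ∀ a ∈ l, a < 9) (i : ℕ) (hi : i < 3510) :
    walkA C1687.T l i = walkA TQ l i := by
  induction l with
  | nil => rfl
  | cons a l ih =>
    have hl' : ∀ b ∈ l, b < 9 := fun b hb => hl b (List.mem_cons_of_mem _ hb)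
    have hlt : walkA C1687.T l i < 3510 := by rw [← pt_wv l hl' hi]; exact pt_lt _ hi
    rw [walkA_cons, walkA_cons, ← ih hl', gen_tab a (hl a List.mem_cons_self) _ hlt]

theorem lval_gen (k : ℕ) (hk : k < 9) : lval k = gv k := by
  unfold lval
  rw [lw_gen k hk]
  show gv k * 1 = gv k
  rw [mul_one]

theorem pt_lval (k : ℕ) (hk : k < 31) (i : ℕ) (hi : i < 3510) : pt (lval k) i = TQ k i := by
  unfold lval
  by_cases h1 : k < 19
  · have hlet := (letChk_iff _ _).mp (lw_mac k h1)
    rw [pt_wv _ hlet hi, walk_gen _ hlet i hi]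
    have c := letTab_all k h1 i hi
    unfold letTabChk at c
    rw [Bool.or_eq_true] at c
    rcases c with c | c
    · exact absurd (Nat.le_of_ble_eq_true c) (by omega)
    · by_cases h2 : k < 9
      · rw [lw_gen k h2]
        rfl
      · rw [blt_false_of_not_lt h2, cond_false] at c
        rw [Nat.eq_of_beq_eq_true c]
        unfold TQ
        rw [blt_true_of_lt h1, cond_true]
  · rw [lw_nil k (by omega) hk]
    unfold TQ
    rw [blt_false_of_not_lt h1, cond_false]
    exact pt_one i

/-! ### packed words -/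

/-- the value of a packed word -/
noncomputable abbrev wvQ (w : ℕ) : Cfsg.Spor.Fi22 := ((unpackQ 1024 w).map lval).prod

/-- the image of a point under a packed word -/
noncomputable abbrev wq (H i : ℕ) : ℕ := walkQ TQ 1024 H i

theorem pt_lprod (l : List ℕ) (hl : ∀ a ∈ l, a < 31) {b : ℕ} (hb : b < 3510) :
    pt ((l.map lval).prod) b = walkA TQ l b := by
  induction l with
  | nil => exact pt_one b
  | cons c l ih =>
    have ih' := ih (fun d hd => hl d (List.mem_cons_of_mem _ hd))
    rw [List.map_cons, List.prod_cons, pt_mul, ih',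
      pt_lval c (hl c List.mem_cons_self) _ (by rw [← ih']; exact pt_lt _ hb), walkA_cons]

theorem pt_wvQ (w : ℕ) {b : ℕ} (hb : b < 3510) : pt (wvQ w) b = wq w b := by
  rw [pt_lprod _ (unpackQ_lt _ _) hb]
  exact (walkQ_eq _ _ _ _).symm

theorem wq_lt (w : ℕ) {b : ℕ} (hb : b < 3510) : wq w b < 3510 := by
  rw [← pt_wvQ w hb]; exact pt_lt _ hb

/-! ### packed permutation tables -/

/-- the image of `y` under the `e`-th power of a table -/
noncomputable def iterT (N e y : ℕ) : ℕ :=
  Nat.rec (motive := fun _ => ℕ) y (fun _ ih => natLetN ih (tabAt N)) e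

theorem iterT_zero (N y : ℕ) : iterT N 0 y = y := rfl

theorem iterT_succ (N e y : ℕ) : iterT N (e + 1) y = tabAt N (iterT N e y) := by
  show natLetN (iterT N e y) (tabAt N) = _
  rw [natLetN_eq]

theorem iterT_lt {N : ℕ} {s : Cfsg.Spor.Fi22} (hS : ∀ i, i < 3510 → pt s i = tabAt N i)
    (e : ℕ) {z : ℕ} (hz : z < 3510) : iterT N e z < 3510 := by
  induction e with
  | zero => exact hz
  | succ e ih => rw [iterT_succ, ← hS _ ih]; exact pt_lt _ ih

theorem pt_pow_tab {N : ℕ} {s : Cfsg.Spor.Fi22} (hS : ∀ i, i < 3510 → pt s i = tabAt N i)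
    (e : ℕ) {z : ℕ} (hz : z < 3510) : pt (s ^ e) z = iterT N e z := by
  induction e with
  | zero => rw [pow_zero, pt_one]; rfl
  | succ e ih => rw [pow_succ', pt_mul, ih, hS _ (iterT_lt hS e hz), iterT_succ]

/-! ### the certificates -/

/-- the element is number `z` of the list -/
noncomputable def chkGood (K : ℕ) (Ll : List ℕ) (u1 u2 u3 u4 u5 t1 t2 t3 t4 t5 z : ℕ) : Bool :=
  natLetB (nthN Ll z) fun H0 => Nat.blt z K && (Nat.beq (wq H0 u1) t1 && (Nat.beq (wq H0 u2) t2 &&
    (Nat.beq (wq H0 u3) t3 && (Nat.beq (wq H0 u4) t4 && Nat.beq (wq H0 u5) t5))))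

/-- the only candidate does not satisfy the equation at the point `z` -/
noncomputable def chkBad (TS TS' u1 u2 u3 u4 u5 t1 t2 t3 t4 t5 z H : ℕ) : Bool :=
  Nat.blt z 3510 && (Nat.beq (wq H u1) t1 && (Nat.beq (wq H u2) t2 && (Nat.beq (wq H u3) t3 &&
    (Nat.beq (wq H u4) t4 && (Nat.beq (wq H u5) t5 &&
      !(Nat.beq (wq H (tabAt TS z)) (tabAt TS' (wq H z))))))))

noncomputable def chkNeg2 (t1 t2 H : ℕ) : Bool :=
  Nat.beq (wq H t1) 0 && notOrb F22L.ov2 F22L.op2 2816 (wq H t2)

noncomputable def chkNeg3 (t1 t2 t3 H : ℕ) : Bool :=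
  Nat.beq (wq H t1) 0 && (Nat.beq (wq H t2) 1 && notOrb F22L.ov3 F22L.op3 1680 (wq H t3))

noncomputable def chkNeg4 (t1 t2 t3 t4 H : ℕ) : Bool :=
  Nat.beq (wq H t1) 0 && (Nat.beq (wq H t2) 1 && (Nat.beq (wq H t3) 192 &&
    notOrb F22L.ov4 F22L.op4 243 (wq H t4)))

noncomputable def chkNeg5 (ovf opf : ℕ → ℕ) (t1 t2 t3 t4 t5 H : ℕ) : Bool :=
  Nat.beq (wq H t1) 0 && (Nat.beq (wq H t2) 1 && (Nat.beq (wq H t3) 192 &&
    (Nat.beq (wq H t4) 54 && notOrb ovf opf 16 (wq H t5))))

/-- the check of the certificate `c` for the image `y` -/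
noncomputable def candChk (TS TS' : ℕ) (ovf opf : ℕ → ℕ) (u1 u2 u3 u4 u5 e1 e2 e3 e4 e5 K : ℕ)
    (Ll : List ℕ) (c y : ℕ) : Bool :=
  natLetB (iterT TS' e1 y) fun t1 => natLetB (iterT TS' e2 y) fun t2 =>
  natLetB (iterT TS' e3 y) fun t3 => natLetB (iterT TS' e4 y) fun t4 =>
  natLetB (iterT TS' e5 y) fun t5 =>
  natLetB (Nat.land c 7) fun kind => natLetB (Nat.land (Nat.shiftRight c 3) 65535) fun z =>
  natLetB (Nat.shiftRight c 19) fun H =>
    cond (Nat.beq kind 0) (chkGood K Ll u1 u2 u3 u4 u5 t1 t2 t3 t4 t5 z)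
      (cond (Nat.beq kind 1) (chkBad TS TS' u1 u2 u3 u4 u5 t1 t2 t3 t4 t5 z H)
        (cond (Nat.beq kind 2) (chkNeg2 t1 t2 H)
          (cond (Nat.beq kind 3) (chkNeg3 t1 t2 t3 H)
            (cond (Nat.beq kind 4) (chkNeg4 t1 t2 t3 t4 H)
              (cond (Nat.beq kind 5) (chkNeg5 ovf opf t1 t2 t3 t4 t5 H) false)))))

/-- the check for the image `y`, for all `y` -/
noncomputable def candAll (TS TS' : ℕ) (ovf opf : ℕ → ℕ) (u1 u2 u3 u4 u5 e1 e2 e3 e4 e5 K : ℕ)
    (Ll : List ℕ) (cs : List (List ℕ)) (y : ℕ) : Bool :=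
  Nat.ble 3510 y || candChk TS TS' ovf opf u1 u2 u3 u4 u5 e1 e2 e3 e4 e5 K Ll (certAt cs y) y

theorem cand_sound {TS TS' : ℕ} {s s' : Cfsg.Spor.Fi22}
    (hS : ∀ i, i < 3510 → pt s i = tabAt TS i) (hS' : ∀ i, i < 3510 → pt s' i = tabAt TS' i)
    {b5 : ℕ} {ovf opf : ℕ → ℕ} (F : Fifth b5 ovf opf)
    {u1 u2 u3 u4 u5 q e1 e2 e3 e4 e5 K : ℕ} {Ll : List ℕ} {cs : List (List ℕ)}
    (g0 : Cfsg.Spor.Fi22) (hq : q < 3510)
    (h1 : pt g0 0 = u1) (h2 : pt g0 1 = u2) (h3 : pt g0 192 = u3) (h4 : pt g0 54 = u4)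
    (h5 : pt g0 b5 = u5)
    (hu1 : iterT TS e1 q = u1) (hu2 : iterT TS e2 q = u2) (hu3 : iterT TS e3 q = u3)
    (hu4 : iterT TS e4 q = u4) (hu5 : iterT TS e5 q = u5)
    (hchk : ∀ y, y < 3510 →
      candAll TS TS' ovf opf u1 u2 u3 u4 u5 e1 e2 e3 e4 e5 K Ll cs y = true)
    (h : Cfsg.Spor.Fi22) (hh : h * s = s' * h) : ∃ idx, idx < K ∧ h = wvQ (nthN Ll idx) := by
  have conj : ∀ e : ℕ, pt h (iterT TS e q) = iterT TS' e (pt h q) := by
    intro e
    induction e with
    | zero => rfl
    | succ e ih =>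
      have hlt := iterT_lt hS e hq
      rw [iterT_succ, ← hS _ hlt, ← pt_mul, hh, pt_mul, ih, iterT_succ, hS' _ (by
        rw [← ih]; exact pt_lt _ hlt)]
  have hy : pt h q < 3510 := pt_lt _ hq
  have hb5 : b5 < 3510 := F.lt
  have l1 : u1 < 3510 := by rw [← h1]; exact pt_lt _ (by norm_num)
  have l2 : u2 < 3510 := by rw [← h2]; exact pt_lt _ (by norm_num)
  have l3 : u3 < 3510 := by rw [← h3]; exact pt_lt _ (by norm_num)
  have l4 : u4 < 3510 := by rw [← h4]; exact pt_lt _ (by norm_num)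
  have l5 : u5 < 3510 := by rw [← h5]; exact pt_lt _ hb5
  have k1 : pt h u1 = iterT TS' e1 (pt h q) := by rw [← hu1, conj]
  have k2 : pt h u2 = iterT TS' e2 (pt h q) := by rw [← hu2, conj]
  have k3 : pt h u3 = iterT TS' e3 (pt h q) := by rw [← hu3, conj]
  have k4 : pt h u4 = iterT TS' e4 (pt h q) := by rw [← hu4, conj]
  have k5 : pt h u5 = iterT TS' e5 (pt h q) := by rw [← hu5, conj]
  have m1 : iterT TS' e1 (pt h q) < 3510 := by rw [← k1]; exact pt_lt _ l1
  have m2 : iterT TS' e2 (pt h q) < 3510 := by rw [← k2]; exact pt_lt _ l2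
  have m3 : iterT TS' e3 (pt h q) < 3510 := by rw [← k3]; exact pt_lt _ l3
  have m4 : iterT TS' e4 (pt h q) < 3510 := by rw [← k4]; exact pt_lt _ l4
  have m5 : iterT TS' e5 (pt h q) < 3510 := by rw [← k5]; exact pt_lt _ l5
  have c := hchk _ hy
  unfold candAll at c
  rw [Bool.or_eq_true] at c
  rcases c with c | c
  · exact absurd (Nat.le_of_ble_eq_true c) (by omega)
  unfold candChk at c
  simp only [natLetB_eq] at c
  generalize iterT TS' e1 (pt h q) = t1 at *
  generalize iterT TS' e2 (pt h q) = t2 at *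
  generalize iterT TS' e3 (pt h q) = t3 at *
  generalize iterT TS' e4 (pt h q) = t4 at *
  generalize iterT TS' e5 (pt h q) = t5 at *
  generalize Nat.land (certAt cs (pt h q)) 7 = kind at c
  generalize Nat.land (Nat.shiftRight (certAt cs (pt h q)) 3) 65535 = z at c
  generalize Nat.shiftRight (certAt cs (pt h q)) 19 = H at c
  -- an element with the same images of the five points as `h`
  have same : ∀ H0 : ℕ, wq H0 u1 = t1 → wq H0 u2 = t2 → wq H0 u3 = t3 → wq H0 u4 = t4 →
      wq H0 u5 = t5 → h = wvQ H0 := by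
    intro H0 a1 a2 a3 a4 a5
    have e : h * g0 = wvQ H0 * g0 := by
      apply eq_of_base F
      · rw [pt_mul, pt_mul, h1, k1, pt_wvQ _ l1, a1]
      · rw [pt_mul, pt_mul, h2, k2, pt_wvQ _ l2, a2]
      · rw [pt_mul, pt_mul, h3, k3, pt_wvQ _ l3, a3]
      · rw [pt_mul, pt_mul, h4, k4, pt_wvQ _ l4, a4]
      · rw [pt_mul, pt_mul, h5, k5, pt_wvQ _ l5, a5]
    exact mul_right_cancel e
  -- the images of the base under `wvQ H * (h * g0)`
  have im1 : ∀ H0 : ℕ, pt (wvQ H0 * (h * g0)) 0 = wq H0 t1 := by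
    intro H0; rw [pt_mul, pt_mul, h1, k1, pt_wvQ _ m1]
  have im2 : ∀ H0 : ℕ, pt (wvQ H0 * (h * g0)) 1 = wq H0 t2 := by
    intro H0; rw [pt_mul, pt_mul, h2, k2, pt_wvQ _ m2]
  have im3 : ∀ H0 : ℕ, pt (wvQ H0 * (h * g0)) 192 = wq H0 t3 := by
    intro H0; rw [pt_mul, pt_mul, h3, k3, pt_wvQ _ m3]
  have im4 : ∀ H0 : ℕ, pt (wvQ H0 * (h * g0)) 54 = wq H0 t4 := by
    intro H0; rw [pt_mul, pt_mul, h4, k4, pt_wvQ _ m4]
  have im5 : ∀ H0 : ℕ, pt (wvQ H0 * (h * g0)) b5 = wq H0 t5 := by
    intro H0; rw [pt_mul, pt_mul, h5, k5, pt_wvQ _ m5]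
  cases hk0 : Nat.beq kind 0 with
  | true =>
    rw [hk0, cond_true] at c
    unfold chkGood at c
    rw [natLetB_eq] at c
    simp only [Bool.and_eq_true] at c
    obtain ⟨c0, c1, c2, c3, c4, c5⟩ := c
    exact ⟨z, Nat.blt_eq.mp c0, same _ (Nat.eq_of_beq_eq_true c1) (Nat.eq_of_beq_eq_true c2)
      (Nat.eq_of_beq_eq_true c3) (Nat.eq_of_beq_eq_true c4) (Nat.eq_of_beq_eq_true c5)⟩
  | false =>
    rw [hk0, cond_false] at c
    exfalso
    cases hk1 : Nat.beq kind 1 with
    | true =>
      rw [hk1, cond_true] at c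
      unfold chkBad at c
      simp only [Bool.and_eq_true] at c
      obtain ⟨c0, c1, c2, c3, c4, c5, c6⟩ := c
      have hz : z < 3510 := Nat.blt_eq.mp c0
      have e := same _ (Nat.eq_of_beq_eq_true c1) (Nat.eq_of_beq_eq_true c2)
        (Nat.eq_of_beq_eq_true c3) (Nat.eq_of_beq_eq_true c4) (Nat.eq_of_beq_eq_true c5)
      have e1 : pt (h * s) z = wq H (tabAt TS z) := by
        rw [pt_mul, hS z hz, e, pt_wvQ _ (by rw [← hS z hz]; exact pt_lt _ hz)]
      have e2 : pt (s' * h) z = tabAt TS' (wq H z) := by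
        rw [pt_mul, hS' _ (pt_lt _ hz), e, pt_wvQ _ hz]
      rw [hh, e2] at e1
      rw [← e1, Nat.beq_refl] at c6
      exact absurd c6 (by decide)
    | false =>
      rw [hk1, cond_false] at c
      cases hk2 : Nat.beq kind 2 with
      | true =>
        rw [hk2, cond_true] at c
        unfold chkNeg2 at c
        simp only [Bool.and_eq_true] at c
        obtain ⟨c1, c2⟩ := c
        obtain ⟨t, ht, e⟩ := orb2 (wvQ H * (h * g0))
          (by rw [im1]; exact Nat.eq_of_beq_eq_true c1)
        rw [im2] at e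
        exact notOrb_spec _ _ _ _ op2_ov2 c2 t ht e.symm
      | false =>
        rw [hk2, cond_false] at c
        cases hk3 : Nat.beq kind 3 with
        | true =>
          rw [hk3, cond_true] at c
          unfold chkNeg3 at c
          simp only [Bool.and_eq_true] at c
          obtain ⟨c1, c2, c3⟩ := c
          obtain ⟨t, ht, e⟩ := orb3 (wvQ H * (h * g0))
            (by rw [im1]; exact Nat.eq_of_beq_eq_true c1)
            (by rw [im2]; exact Nat.eq_of_beq_eq_true c2)
          rw [im3] at e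
          exact notOrb_spec _ _ _ _ op3_ov3 c3 t ht e.symm
        | false =>
          rw [hk3, cond_false] at c
          cases hk4 : Nat.beq kind 4 with
          | true =>
            rw [hk4, cond_true] at c
            unfold chkNeg4 at c
            simp only [Bool.and_eq_true] at c
            obtain ⟨c1, c2, c3, c4⟩ := c
            obtain ⟨t, ht, e⟩ := orb4 (wvQ H * (h * g0))
              (by rw [im1]; exact Nat.eq_of_beq_eq_true c1)
              (by rw [im2]; exact Nat.eq_of_beq_eq_true c2)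
              (by rw [im3]; exact Nat.eq_of_beq_eq_true c3)
            rw [im4] at e
            exact notOrb_spec _ _ _ _ op4_ov4 c4 t ht e.symm
          | false =>
            rw [hk4, cond_false] at c
            cases hk5 : Nat.beq kind 5 with
            | true =>
              rw [hk5, cond_true] at c
              unfold chkNeg5 at c
              simp only [Bool.and_eq_true] at c
              obtain ⟨c1, c2, c3, c4, c5⟩ := c
              obtain ⟨t, ht, e⟩ := F.orb (wvQ H * (h * g0))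
                (by rw [im1]; exact Nat.eq_of_beq_eq_true c1)
                (by rw [im2]; exact Nat.eq_of_beq_eq_true c2)
                (by rw [im3]; exact Nat.eq_of_beq_eq_true c3)
                (by rw [im4]; exact Nat.eq_of_beq_eq_true c4)
              rw [im5] at e
              exact notOrb_spec _ _ _ _ F.opov c5 t ht e.symm
            | false =>
              rw [hk5, cond_false] at c
              exact absurd c (by decide)

end Cfsg.Agent.Helper56.Fi22Out
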