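/-
Helper56 library: the kernel checks on the data for the outer automorphism group of `Fi22`.
-/
import Cfsg.Agent.Helper56.Fi22.Cand
import Cfsg.Agent.Helper56.Fi22.Data

set_option autoImplicit false

namespace Cfsg.Agent.Helper56.Fi22Out

open Cfsg.Agent.Helper28 Cfsg.Agent.Helper56.FiOut

/-- the table `N` is the permutation of the packed word `W` -/
noncomputable def tabChk (W N i : ℕ) : Bool := Nat.ble 3510 i || Nat.beq (wq W i) (tabAt N i)

/-- the table `TA2` is the square of the table `TA` -/
noncomputable def sqChk (i : ℕ) : Bool :=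
  Nat.ble 3510 i || Nat.beq (tabAt TA2 i) (tabAt TA (tabAt TA i))

/-- the table `TTi` is the inverse of the table `TT` -/
noncomputable def invChk (i : ℕ) : Bool :=
  Nat.ble 3510 i || natLetB (tabAt TTi i) fun j => Nat.blt j 3510 && Nat.beq (tabAt TT j) i

theorem pt_pow_iterF {g : Cfsg.Spor.Fi22} {f : ℕ → ℕ} (hf : ∀ i, i < 3510 → pt g i = f i)
    (e : ℕ) {z : ℕ} (hz : z < 3510) : pt (g ^ e) z = iterF f e z := by
  induction e with
  | zero => rw [pow_zero, pt_one]; rfl
  | succ e ih =>
    have hlt : iterF f e z < 3510 := by rw [← ih]; exact pt_lt _ hz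
    rw [pow_succ', pt_mul, ih, hf _ hlt, iterF_succ]

/-- a property of the five base points -/
noncomputable def base5 (p : ℕ → Bool) : Bool := p 0 && (p 1 && (p 192 && (p 54 && p 8)))

theorem base5_spec (p : ℕ → Bool) (h : base5 p = true) :
    p 0 = true ∧ p 1 = true ∧ p 192 = true ∧ p 54 = true ∧ p 8 = true := by
  unfold base5 at h
  simp only [Bool.and_eq_true] at h
  exact h

/-- the word number `k` of `LA` is the `k`-th power of `a` -/
noncomputable def laChk (k : ℕ) : Bool :=
  Nat.ble 13 k || natLetB (nthN LA k) fun H => base5 fun b => Nat.beq (wq H b) (iterT TA k b)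

/-- the inverter number `idx` of `t` is `x`, or fails one of the two relations of `x` at a
point -/
noncomputable def hexChk (idx : ℕ) : Bool :=
  Nat.ble 216 idx || natLetB (nthN LX idx) fun H => natLetB (nthN hexD idx) fun d =>
    cond (Nat.beq d 0) (Nat.beq H WX)
      (natLetB (Nat.shiftRight d 2) fun z => Nat.blt z 3510 &&
        cond (Nat.beq (Nat.land d 3) 1)
          (!(Nat.beq (iterF (fun i => tabAt TA (wq H i)) 7 z) z))
          (!(Nat.beq (iterF (fun i => tabAt TA2 (wq H i)) 13 z) z)))

/-- the tables of `a`, `t`, `x` -/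
noncomputable def tab3 (c i : ℕ) : ℕ := tabAt (nthN [TA, TT, TX] c) i

/-- the generator `k` is the value of its word in `a`, `t`, `x` -/
noncomputable def genChk (k : ℕ) : Bool :=
  Nat.ble 9 k || (letChk 3 (nthL genSW k) &&
    base5 fun b => Nat.beq (C1687.T k b) (walkA tab3 (nthL genSW k) b))

/-- the symmetry of the diagram, on the numbers of the generators -/
noncomputable def swL (k : ℕ) : ℕ := nthN [6, 5, 4, 3, 2, 1, 0, 7, 8] k

/-- a relator word with the generators exchanged is trivial -/
noncomputable def relChk (l : List ℕ) : Bool :=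
  letChk 9 l && base5 fun b => Nat.beq (walkA C1687.T (l.map swL) b) b

/-- the orbit of the fifth base point used for `t` -/
noncomputable def ovT (t : ℕ) : ℕ := nthN OVT t
/-- the positions in the orbit of the fifth base point used for `t` -/
noncomputable def opT (z : ℕ) : ℕ := posN OVT z
noncomputable def otpT (t : ℕ) : ℕ := nthN OTPT t
noncomputable def otwT (t : ℕ) : ℕ := nthN OTWT t

/-- the check of the orbit of the fifth base point used for `t` -/
noncomputable def lbTChk (t : ℕ) : Bool :=
  Nat.ble 16 t || lbPt C1687.T 3510 F22L.W5 ovT opT otpT otwT t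

end Cfsg.Agent.Helper56.Fi22Out
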