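/-
Helper56 library: kernel-checked certificates for the outer automorphism group of `Fi22` (the inverters of t).
-/
import Cfsg.Agent.Helper56.Fi22.ChkDefs

set_option autoImplicit false

namespace Cfsg.Agent.Helper56.Fi22Out

open Cfsg.Agent.Helper28 Cfsg.Agent.Helper56.FiOut

theorem scanC_0 : rgAll (candAll TT TTi ovT opT 81 1631 32 1236 2942 3 1 0 5 2 216 LX certC) 10 (2 ^ 10 * 0) = true := by decide +kernel
theorem scanC_1 : rgAll (candAll TT TTi ovT opT 81 1631 32 1236 2942 3 1 0 5 2 216 LX certC) 10 (2 ^ 10 * 1) = true := by decide +kernel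
theorem scanC_2 : rgAll (candAll TT TTi ovT opT 81 1631 32 1236 2942 3 1 0 5 2 216 LX certC) 10 (2 ^ 10 * 2) = true := by decide +kernel
theorem scanC_3 : rgAll (candAll TT TTi ovT opT 81 1631 32 1236 2942 3 1 0 5 2 216 LX certC) 10 (2 ^ 10 * 3) = true := by decide +kernel

end Cfsg.Agent.Helper56.Fi22Out
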