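/-
Helper56 library: kernel-checked certificates for the outer automorphism group of `Fi22` (single checks).
-/
import Cfsg.Agent.Helper56.Fi22.ChkDefs

set_option autoImplicit false

namespace Cfsg.Agent.Helper56.Fi22Out

open Cfsg.Agent.Helper28 Cfsg.Agent.Helper56.FiOut

theorem g0A_ok : (Nat.beq (wq W0A 0) 23 && (Nat.beq (wq W0A 1) 88 && (Nat.beq (wq W0A 192) 1614 &&
    (Nat.beq (wq W0A 54) 154 && Nat.beq (wq W0A 8) 855)))) = true := by decide +kernel

theorem uA_ok : (Nat.beq (iterT TA 0 23) 23 && (Nat.beq (iterT TA 1 23) 88 && (Nat.beq (iterT TA 7 23) 1614 &&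
    (Nat.beq (iterT TA 2 23) 154 && Nat.beq (iterT TA 11 23) 855)))) = true := by decide +kernel

theorem g0T_ok : (Nat.beq (wq W0T 0) 81 && (Nat.beq (wq W0T 1) 1631 && (Nat.beq (wq W0T 192) 32 &&
    (Nat.beq (wq W0T 54) 1236 && Nat.beq (wq W0T 1282) 2942)))) = true := by decide +kernel

theorem uT_ok : (Nat.beq (iterT TT 3 32) 81 && (Nat.beq (iterT TT 1 32) 1631 && (Nat.beq (iterT TT 0 32) 32 &&
    (Nat.beq (iterT TT 5 32) 1236 && Nat.beq (iterT TT 2 32) 2942)))) = true := by decide +kernel

theorem ordA_ok : base5 (fun b => Nat.beq (iterT TA 13 b) b) = true := by decide +kernel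

theorem neA_ok : Nat.beq (tabAt TA 23) 23 = false := by decide +kernel

theorem relTA_ok : base5 (fun b => Nat.beq (tabAt TT (tabAt TA b)) (iterT TA 4 (tabAt TT b))) = true := by
  decide +kernel

theorem relXT_ok : base5 (fun b => Nat.beq (tabAt TX (tabAt TT b)) (tabAt TTi (tabAt TX b))) = true := by
  decide +kernel

theorem ax_ok : base5 (fun b => Nat.beq (iterF (fun i => tabAt TA (tabAt TX i)) 7 b) b) = true := by
  decide +kernel

theorem aax_ok : base5 (fun b => Nat.beq (iterF (fun i => tabAt TA2 (tabAt TX i)) 13 b) b) = true := by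
  decide +kernel

theorem la_0 : rgAll (laChk) 4 (2 ^ 4 * 0) = true := by decide +kernel
theorem hex_0 : rgAll (hexChk) 8 (2 ^ 8 * 0) = true := by decide +kernel
theorem gen_0 : rgAll (genChk) 4 (2 ^ 4 * 0) = true := by decide +kernel
theorem lbT_0 : rgAll (lbTChk) 4 (2 ^ 4 * 0) = true := by decide +kernel

theorem rel_ok : listAll (C1687.pairs.map (fun p => pairWord p.1 p.2.1 p.2.2) ++ C1687.extraL) relChk = true := by
  decide +kernel

theorem wa_ok : letChk 9 (unpackQ 1024 WA) = true := by decide +kernel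

theorem wap_ok : (unpackQ 1024 WA).map swL = unpackQ 1024 WAP := by decide +kernel

theorem vrel_ok : base5 (fun b => Nat.beq (wq WV (wq WAP b)) (tabAt TA2 (wq WV b))) = true := by
  decide +kernel

end Cfsg.Agent.Helper56.Fi22Out
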