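/-
Helper56 library: kernel-checked certificates for the outer automorphism group of `Fi22` (tables).
-/
import Cfsg.Agent.Helper56.Fi22.ChkDefs

set_option autoImplicit false

namespace Cfsg.Agent.Helper56.Fi22Out

open Cfsg.Agent.Helper28 Cfsg.Agent.Helper56.FiOut

theorem tabA_0 : rgAll (tabChk WA TA) 12 (2 ^ 12 * 0) = true := by decide +kernel
theorem tabT_0 : rgAll (tabChk WT TT) 12 (2 ^ 12 * 0) = true := by decide +kernel
theorem tabX_0 : rgAll (tabChk WX TX) 12 (2 ^ 12 * 0) = true := by decide +kernel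
theorem sqA_0 : rgAll (sqChk) 12 (2 ^ 12 * 0) = true := by decide +kernel
theorem invT_0 : rgAll (invChk) 12 (2 ^ 12 * 0) = true := by decide +kernel

end Cfsg.Agent.Helper56.Fi22Out
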