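/-
Helper56 library: the outer automorphism group of `Fi22` has order 2.  The hypotheses of the
criterion `card_out_abs13`: an element `a` of order 13 that is its own centraliser, an element
`t` with `t a t⁻¹ = a⁴`, the 216 elements inverting `t`, the involution `x` among them,
generation by `a`, `t`, `x`, and the automorphism from the symmetry of the diagram, which maps
`a` to a conjugate of `a²`, while `a` is not conjugate to `a²`.
-/
import Cfsg.Agent.Helper56.Fi22.ChkTab
import Cfsg.Agent.Helper56.Fi22.ChkA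
import Cfsg.Agent.Helper56.Fi22.ChkB
import Cfsg.Agent.Helper56.Fi22.ChkC
import Cfsg.Agent.Helper56.Fi22.ChkMisc
import Cfsg.Agent.Helper56.Suz.Crit
import Cfsg.Agent.Helper28.TCH
import Cfsg.Agent.Helper28.TCL2

set_option autoImplicit false

namespace Cfsg.Agent.Helper56.Fi22Out

open Cfsg.Agent.Helper28 Cfsg.Agent.Helper56.FiOut

/-- the element of order 13 -/
noncomputable def aE : Cfsg.Spor.Fi22 := wvQ WA
/-- an element normalising `⟨a⟩` -/
noncomputable def tE : Cfsg.Spor.Fi22 := wvQ WT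
/-- an involution inverting `t` -/
noncomputable def xE : Cfsg.Spor.Fi22 := wvQ WX
/-- an element conjugating the image of `a` under the diagram automorphism to `a²` -/
noncomputable def vE : Cfsg.Spor.Fi22 := wvQ WV

/-! ### the tables -/

theorem tab_of_chk (W N : ℕ) (h : rgAll (tabChk W N) 12 (2 ^ 12 * 0) = true) :
    ∀ i, i < 3510 → pt (wvQ W) i = tabAt N i := by
  intro i hi
  have c := rgAll_spec _ _ _ h i (by omega) (by norm_num; omega)
  unfold tabChk at c
  rw [Bool.or_eq_true] at c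
  rcases c with c | c
  · exact absurd (Nat.le_of_ble_eq_true c) (by omega)
  · rw [pt_wvQ _ hi]; exact Nat.eq_of_beq_eq_true c

theorem tabA : ∀ i, i < 3510 → pt aE i = tabAt TA i := tab_of_chk WA TA tabA_0

theorem tabT : ∀ i, i < 3510 → pt tE i = tabAt TT i := tab_of_chk WT TT tabT_0

theorem tabX : ∀ i, i < 3510 → pt xE i = tabAt TX i := tab_of_chk WX TX tabX_0

theorem tab_lt {g : Cfsg.Spor.Fi22} {N : ℕ} (h : ∀ i, i < 3510 → pt g i = tabAt N i) {b : ℕ}
    (hb : b < 3510) : tabAt N b < 3510 := by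
  rw [← h b hb]; exact pt_lt _ hb

theorem tabA2 : ∀ i, i < 3510 → pt (aE ^ 2) i = tabAt TA2 i := by
  intro i hi
  have c := rgAll_spec _ _ _ sqA_0 i (by omega) (by norm_num; omega)
  unfold sqChk at c
  rw [Bool.or_eq_true] at c
  rcases c with c | c
  · exact absurd (Nat.le_of_ble_eq_true c) (by omega)
  · rw [pow_two, pt_mul, tabA i hi, tabA _ (tab_lt tabA hi)]
    exact (Nat.eq_of_beq_eq_true c).symm

theorem tabTi : ∀ i, i < 3510 → pt tE⁻¹ i = tabAt TTi i := by
  intro i hi
  have c := rgAll_spec _ _ _ invT_0 i (by omega) (by norm_num; omega)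
  unfold invChk at c
  rw [Bool.or_eq_true] at c
  rcases c with c | c
  · exact absurd (Nat.le_of_ble_eq_true c) (by omega)
  · rw [natLetB_eq, Bool.and_eq_true] at c
    have hj : tabAt TTi i < 3510 := Nat.blt_eq.mp c.1
    have e : pt tE (tabAt TTi i) = i := by
      rw [tabT _ hj]; exact Nat.eq_of_beq_eq_true c.2
    calc pt tE⁻¹ i = pt tE⁻¹ (pt tE (tabAt TTi i)) := by rw [e]
      _ = tabAt TTi i := pt_inv_cancel _ _

/-- equality of two elements through their images of the base -/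
theorem eq_of_base5 (x y : Cfsg.Spor.Fi22) (f g : ℕ → ℕ)
    (hx : ∀ b, b < 3510 → pt x b = f b) (hy : ∀ b, b < 3510 → pt y b = g b)
    (h : base5 (fun b => Nat.beq (f b) (g b)) = true) : x = y := by
  obtain ⟨h0, h1, h2, h3, h4⟩ := base5_spec _ h
  apply eq_of_base fifth_std
  · rw [hx 0 (by norm_num), hy 0 (by norm_num)]; exact Nat.eq_of_beq_eq_true h0
  · rw [hx 1 (by norm_num), hy 1 (by norm_num)]; exact Nat.eq_of_beq_eq_true h1
  · rw [hx 192 (by norm_num), hy 192 (by norm_num)]; exact Nat.eq_of_beq_eq_true h2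
  · rw [hx 54 (by norm_num), hy 54 (by norm_num)]; exact Nat.eq_of_beq_eq_true h3
  · rw [hx 8 (by norm_num), hy 8 (by norm_num)]; exact Nat.eq_of_beq_eq_true h4

/-! ### the relations -/

theorem order_a : orderOf aE = 13 := by
  have : Fact (Nat.Prime 13) := ⟨by norm_num⟩
  refine orderOf_eq_prime ?_ ?_
  · exact eq_of_base5 _ 1 (fun b => iterT TA 13 b) (fun b => b)
      (fun b hb => pt_pow_tab tabA 13 hb) (fun b _ => pt_one b) ordA_ok
  · intro h
    have h1 := tabA 23 (by norm_num)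
    rw [h, pt_one] at h1
    have h2 := neA_ok
    rw [← h1] at h2
    exact absurd h2 (by decide)

theorem t_conj_a : tE * aE * tE⁻¹ = aE ^ 4 := by
  have e : tE * aE = aE ^ 4 * tE :=
    eq_of_base5 _ _ (fun b => tabAt TT (tabAt TA b)) (fun b => iterT TA 4 (tabAt TT b))
      (fun b hb => by rw [pt_mul, tabA b hb, tabT _ (tab_lt tabA hb)])
      (fun b hb => by rw [pt_mul, tabT b hb, pt_pow_tab tabA 4 (tab_lt tabT hb)]) relTA_ok
  rw [e, mul_inv_cancel_right]

theorem x_conj_t : xE * tE * xE⁻¹ = tE⁻¹ := by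
  have e : xE * tE = tE⁻¹ * xE :=
    eq_of_base5 _ _ (fun b => tabAt TX (tabAt TT b)) (fun b => tabAt TTi (tabAt TX b))
      (fun b hb => by rw [pt_mul, tabT b hb, tabX _ (tab_lt tabT hb)])
      (fun b hb => by rw [pt_mul, tabX b hb, tabTi _ (tab_lt tabX hb)]) relXT_ok
  rw [e, mul_inv_cancel_right]

theorem ax_pow : (aE * xE) ^ 7 = 1 :=
  eq_of_base5 _ 1 (fun b => iterF (fun i => tabAt TA (tabAt TX i)) 7 b) (fun b => b)
    (fun b hb => pt_pow_iterF (fun i hi => by rw [pt_mul, tabX i hi, tabA _ (tab_lt tabX hi)])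
      7 hb)
    (fun b _ => pt_one b) ax_ok

theorem aax_pow : (aE ^ 2 * xE) ^ 13 = 1 :=
  eq_of_base5 _ 1 (fun b => iterF (fun i => tabAt TA2 (tabAt TX i)) 13 b) (fun b => b)
    (fun b hb => pt_pow_iterF (fun i hi => by rw [pt_mul, tabX i hi, tabA2 _ (tab_lt tabX hi)])
      13 hb)
    (fun b _ => pt_one b) aax_ok

/-! ### the three scans -/

theorem scanA_all (y : ℕ) (hy : y < 3510) :
    candAll TA TA F22L.ov5 F22L.op5 23 88 1614 154 855 0 1 7 2 11 13 LA certA y = true := by
  refine rg_cover _ 10 4 (fun k hk => ?_) y (by norm_num; omega)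
  interval_cases k
  · exact scanA_0
  · exact scanA_1
  · exact scanA_2
  · exact scanA_3

theorem scanB_all (y : ℕ) (hy : y < 3510) :
    candAll TA TA2 F22L.ov5 F22L.op5 23 88 1614 154 855 0 1 7 2 11 0 [] certB y = true := by
  refine rg_cover _ 10 4 (fun k hk => ?_) y (by norm_num; omega)
  interval_cases k
  · exact scanB_0
  · exact scanB_1
  · exact scanB_2
  · exact scanB_3

theorem scanC_all (y : ℕ) (hy : y < 3510) :
    candAll TT TTi ovT opT 81 1631 32 1236 2942 3 1 0 5 2 216 LX certC y = true := by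
  refine rg_cover _ 10 4 (fun k hk => ?_) y (by norm_num; omega)
  interval_cases k
  · exact scanC_0
  · exact scanC_1
  · exact scanC_2
  · exact scanC_3

/-- the fifth base point used for `t` -/
theorem fifthT : Fifth 1282 ovT opT := by
  have h := fifth_of_lb ovT opT otpT otwT (fun t ht => by
    have c := rgAll_spec _ _ _ lbT_0 t (by omega) (by norm_num; omega)
    unfold lbTChk at c
    rw [Bool.or_eq_true] at c
    rcases c with c | c
    · exact absurd (Nat.le_of_ble_eq_true c) (by omega)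
    · exact c)
  rw [show ovT 0 = 1282 from by decide +kernel] at h
  exact h

/-- The element `a` of order 13 is its own centraliser. -/
theorem cent_a (c : Cfsg.Spor.Fi22) (hc : c * aE = aE * c) : c ∈ Subgroup.zpowers aE := by
  obtain ⟨g1, g2, g3, g4, g5⟩ := and5 g0A_ok
  obtain ⟨v1, v2, v3, v4, v5⟩ := and5 uA_ok
  obtain ⟨idx, hidx, e⟩ := cand_sound tabA tabA fifth_std (wvQ W0A) (show 23 < 3510 by norm_num)
    (by rw [pt_wvQ _ (by norm_num)]; exact Nat.eq_of_beq_eq_true g1)
    (by rw [pt_wvQ _ (by norm_num)]; exact Nat.eq_of_beq_eq_true g2)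
    (by rw [pt_wvQ _ (by norm_num)]; exact Nat.eq_of_beq_eq_true g3)
    (by rw [pt_wvQ _ (by norm_num)]; exact Nat.eq_of_beq_eq_true g4)
    (by rw [pt_wvQ _ (by norm_num)]; exact Nat.eq_of_beq_eq_true g5)
    (Nat.eq_of_beq_eq_true v1) (Nat.eq_of_beq_eq_true v2) (Nat.eq_of_beq_eq_true v3)
    (Nat.eq_of_beq_eq_true v4) (Nat.eq_of_beq_eq_true v5) scanA_all c hc
  have l := rgAll_spec _ _ _ la_0 idx (by omega) (by norm_num; omega)
  unfold laChk at l
  rw [Bool.or_eq_true] at l
  rcases l with l | l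
  · exact absurd (Nat.le_of_ble_eq_true l) (by omega)
  rw [natLetB_eq] at l
  have e2 : wvQ (nthN LA idx) = aE ^ idx :=
    eq_of_base5 _ _ (fun b => wq (nthN LA idx) b) (fun b => iterT TA idx b)
      (fun b hb => pt_wvQ _ hb) (fun b hb => pt_pow_tab tabA idx hb) l
  rw [e, e2]
  exact Subgroup.pow_mem _ (Subgroup.mem_zpowers _) idx

/-- No element conjugates `a` to its square. -/
theorem no_sq_a (y : Cfsg.Spor.Fi22) (hy : y * aE = aE ^ 2 * y) : False := by
  obtain ⟨g1, g2, g3, g4, g5⟩ := and5 g0A_ok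
  obtain ⟨v1, v2, v3, v4, v5⟩ := and5 uA_ok
  obtain ⟨idx, hidx, _⟩ := cand_sound tabA tabA2 fifth_std (wvQ W0A) (show 23 < 3510 by norm_num)
    (by rw [pt_wvQ _ (by norm_num)]; exact Nat.eq_of_beq_eq_true g1)
    (by rw [pt_wvQ _ (by norm_num)]; exact Nat.eq_of_beq_eq_true g2)
    (by rw [pt_wvQ _ (by norm_num)]; exact Nat.eq_of_beq_eq_true g3)
    (by rw [pt_wvQ _ (by norm_num)]; exact Nat.eq_of_beq_eq_true g4)
    (by rw [pt_wvQ _ (by norm_num)]; exact Nat.eq_of_beq_eq_true g5)
    (Nat.eq_of_beq_eq_true v1) (Nat.eq_of_beq_eq_true v2) (Nat.eq_of_beq_eq_true v3)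
    (Nat.eq_of_beq_eq_true v4) (Nat.eq_of_beq_eq_true v5) scanB_all y hy
  exact absurd hidx (by omega)

/-- The involution `x` is the only element inverting `t` with the two relations. -/
theorem excl (y : Cfsg.Spor.Fi22) (hy : y * tE = tE⁻¹ * y) (h1 : (aE * y) ^ 7 = 1)
    (h2 : (aE ^ 2 * y) ^ 13 = 1) : y = xE := by
  obtain ⟨g1, g2, g3, g4, g5⟩ := and5 g0T_ok
  obtain ⟨v1, v2, v3, v4, v5⟩ := and5 uT_ok
  obtain ⟨idx, hidx, e⟩ := cand_sound tabT tabTi fifthT (wvQ W0T) (show 32 < 3510 by norm_num)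
    (by rw [pt_wvQ _ (by norm_num)]; exact Nat.eq_of_beq_eq_true g1)
    (by rw [pt_wvQ _ (by norm_num)]; exact Nat.eq_of_beq_eq_true g2)
    (by rw [pt_wvQ _ (by norm_num)]; exact Nat.eq_of_beq_eq_true g3)
    (by rw [pt_wvQ _ (by norm_num)]; exact Nat.eq_of_beq_eq_true g4)
    (by rw [pt_wvQ _ (by norm_num)]; exact Nat.eq_of_beq_eq_true g5)
    (Nat.eq_of_beq_eq_true v1) (Nat.eq_of_beq_eq_true v2) (Nat.eq_of_beq_eq_true v3)
    (Nat.eq_of_beq_eq_true v4) (Nat.eq_of_beq_eq_true v5) scanC_all y hy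
  have l := rgAll_spec _ _ _ hex_0 idx (by omega) (by norm_num; omega)
  unfold hexChk at l
  rw [Bool.or_eq_true] at l
  rcases l with l | l
  · exact absurd (Nat.le_of_ble_eq_true l) (by omega)
  rw [natLetB_eq, natLetB_eq] at l
  rw [e] at h1 h2
  generalize nthN LX idx = H at e l h1 h2
  generalize nthN hexD idx = d at l
  cases hd0 : Nat.beq d 0 with
  | true =>
    rw [hd0, cond_true] at l
    rw [e, Nat.eq_of_beq_eq_true l]
    rfl
  | false =>
    rw [hd0, cond_false, natLetB_eq, Bool.and_eq_true] at l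
    obtain ⟨lz, l⟩ := l
    have hz : Nat.shiftRight d 2 < 3510 := Nat.blt_eq.mp lz
    generalize Nat.shiftRight d 2 = z at l hz
    exfalso
    cases hd1 : Nat.beq (Nat.land d 3) 1 with
    | true =>
      rw [hd1, cond_true] at l
      have hf : ∀ i, i < 3510 → pt (aE * wvQ H) i = tabAt TA (wq H i) := by
        intro i hi
        rw [pt_mul, pt_wvQ _ hi, tabA _ (wq_lt _ hi)]
      have h3 := pt_pow_iterF hf 7 hz
      rw [h1, pt_one] at h3
      rw [← h3, Nat.beq_refl] at l
      exact absurd l (by decide)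
    | false =>
      rw [hd1, cond_false] at l
      have hf : ∀ i, i < 3510 → pt (aE ^ 2 * wvQ H) i = tabAt TA2 (wq H i) := by
        intro i hi
        rw [pt_mul, pt_wvQ _ hi, tabA2 _ (wq_lt _ hi)]
      have h3 := pt_pow_iterF hf 13 hz
      rw [h2, pt_one] at h3
      rw [← h3, Nat.beq_refl] at l
      exact absurd l (by decide)

/-! ### generation -/

/-- the three generators -/
noncomputable def val3 : ℕ → Cfsg.Spor.Fi22
  | 0 => aE
  | 1 => tE
  | _ => xE

theorem pt_val3 (c : ℕ) (hc : c < 3) (i : ℕ) (hi : i < 3510) : pt (val3 c) i = tab3 c i := by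
  interval_cases c
  · exact tabA i hi
  · exact tabT i hi
  · exact tabX i hi

theorem walk_val3 (l : List ℕ) (hl : ∀ c ∈ l, c < 3) {b : ℕ} (hb : b < 3510) :
    pt ((l.map val3).prod) b = walkA tab3 l b := by
  induction l with
  | nil => exact pt_one b
  | cons c l ih =>
    have ih' := ih (fun d hd => hl d (List.mem_cons_of_mem _ hd))
    rw [List.map_cons, List.prod_cons, pt_mul, ih',
      pt_val3 c (hl c List.mem_cons_self) _ (by rw [← ih']; exact pt_lt _ hb), walkA_cons]

theorem val3_mem (c : ℕ) : val3 c ∈ Subgroup.closure ({aE, tE, xE} : Set Cfsg.Spor.Fi22) := by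
  rcases c with _ | _ | c
  · exact Subgroup.subset_closure (Or.inl rfl)
  · exact Subgroup.subset_closure (Or.inr (Or.inl rfl))
  · exact Subgroup.subset_closure (Or.inr (Or.inr rfl))

theorem prod_val3_mem (l : List ℕ) :
    (l.map val3).prod ∈ Subgroup.closure ({aE, tE, xE} : Set Cfsg.Spor.Fi22) := by
  induction l with
  | nil => exact Subgroup.one_mem _
  | cons c l ih =>
    rw [List.map_cons, List.prod_cons]
    exact Subgroup.mul_mem _ (val3_mem c) ih

theorem gv_mem (k : ℕ) (hk : k < 9) :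
    gv k ∈ Subgroup.closure ({aE, tE, xE} : Set Cfsg.Spor.Fi22) := by
  have l := rgAll_spec _ _ _ gen_0 k (by omega) (by norm_num; omega)
  unfold genChk at l
  rw [Bool.or_eq_true] at l
  rcases l with l | l
  · exact absurd (Nat.le_of_ble_eq_true l) (by omega)
  rw [Bool.and_eq_true] at l
  have hlet := (letChk_iff _ _).mp l.1
  have e : gv k = ((nthL genSW k).map val3).prod :=
    eq_of_base5 _ _ (fun b => C1687.T k b) (fun b => walkA tab3 (nthL genSW k) b)
      (fun b hb => pt_gv k hk hb) (fun b hb => walk_val3 _ hlet hb) l.2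
  rw [e]
  exact prod_val3_mem _

theorem gv_eq_of (k : ℕ) (hk : k < C1687.D.jc) : gv k = PresentedGroup.of (C1687.gen k) :=
  Cfsg.Agent.Helper28.coxVal_of k hk

theorem gen_surj (g0 : Cfsg.Spor.Fi22.Gen) : ∃ k, k < 9 ∧ C1687.gen k = g0 := by
  cases g0
  · exact ⟨0, by norm_num, rfl⟩
  · exact ⟨1, by norm_num, rfl⟩
  · exact ⟨2, by norm_num, rfl⟩
  · exact ⟨3, by norm_num, rfl⟩
  · exact ⟨4, by norm_num, rfl⟩
  · exact ⟨5, by norm_num, rfl⟩
  · exact ⟨6, by norm_num, rfl⟩
  · exact ⟨7, by norm_num, rfl⟩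
  · exact ⟨8, by norm_num, rfl⟩

theorem gen_top : Subgroup.closure ({aE, tE, xE} : Set Cfsg.Spor.Fi22) = ⊤ := by
  rw [eq_top_iff, ← PresentedGroup.closure_range_of]
  apply (Subgroup.closure_le _).mpr
  rintro _ ⟨g0, rfl⟩
  obtain ⟨k, hk, rfl⟩ := gen_surj g0
  have h := gv_mem k hk
  rw [gv_eq_of k (by rw [jc_eq]; exact hk)] at h
  exact h

/-! ### the diagram automorphism -/

/-- the symmetry of the diagram -/
def swG : Cfsg.Spor.Fi22.Gen → Cfsg.Spor.Fi22.Gen
  | .a => .g
  | .b => .f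
  | .c => .e
  | .d => .d
  | .e => .c
  | .f => .b
  | .g => .a
  | .h => .h
  | .i => .i

/-- the images of the generators -/
noncomputable def vphi (x : Cfsg.Spor.Fi22.Gen) : Cfsg.Spor.Fi22 := PresentedGroup.of (swG x)

theorem vphi_sq (x : Cfsg.Spor.Fi22.Gen) : vphi x * vphi x = 1 :=
  cox_sq Cfsg.Spor.Fi22.edges Cfsg.Spor.Fi22.extra (swG x) (F22.node (swG x))

theorem swL_lt (k : ℕ) (hk : k < 9) : swL k < 9 := by
  interval_cases k <;> decide +kernel

theorem vphi_gen (k : ℕ) (hk : k < 9) : vphi (C1687.gen k) = gv (swL k) := by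
  rw [gv_eq_of (swL k) (by rw [jc_eq]; exact swL_lt k hk)]
  interval_cases k <;> rfl

theorem prod_sw (l : List ℕ) (hl : ∀ a ∈ l, a < 9) :
    (l.map (fun k => vphi (C1687.gen k))).prod = wv (l.map swL) := by
  induction l with
  | nil => rfl
  | cons a l ih =>
    rw [List.map_cons, List.prod_cons, vphi_gen a (hl a List.mem_cons_self),
      ih (fun b hb => hl b (List.mem_cons_of_mem _ hb))]
    rfl

theorem rel_phi : ∀ l ∈ C1687.pairs.map (fun p => pairWord p.1 p.2.1 p.2.2) ++ C1687.extraL,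
    (l.map (fun k => vphi (C1687.gen k))).prod = 1 := by
  intro l hl
  have c := (listAll_iff _ _).mp rel_ok l hl
  unfold relChk at c
  rw [Bool.and_eq_true] at c
  have hlet := (letChk_iff _ _).mp c.1
  have hlet' : ∀ a ∈ l.map swL, a < 9 := by
    intro a ha
    obtain ⟨b, hb, rfl⟩ := List.mem_map.mp ha
    exact swL_lt b (hlet b hb)
  rw [prod_sw l hlet]
  exact eq_of_base5 _ 1 (fun b => walkA C1687.T (l.map swL) b) (fun b => b)
    (fun b hb => pt_wv _ hlet' hb) (fun b _ => pt_one b) c.2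

/-- the diagram automorphism, as a homomorphism -/
noncomputable def phiHom : Cfsg.Spor.Fi22 →* Cfsg.Spor.Fi22 :=
  PresentedGroup.toGroup (C1687.cert.lift_rel vphi vphi_sq rel_phi)

theorem phiHom_of (x : Cfsg.Spor.Fi22.Gen) : phiHom (PresentedGroup.of x) = vphi x :=
  PresentedGroup.toGroup.of _

theorem phi_invol : phiHom.comp phiHom = MonoidHom.id Cfsg.Spor.Fi22 := by
  apply PresentedGroup.ext
  intro x
  show phiHom (phiHom (PresentedGroup.of x)) = PresentedGroup.of x
  rw [phiHom_of]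
  show phiHom (PresentedGroup.of (swG x)) = PresentedGroup.of x
  rw [phiHom_of]
  show PresentedGroup.of (swG (swG x)) = PresentedGroup.of x
  cases x <;> rfl

/-- the diagram automorphism -/
noncomputable def phi : MulAut Cfsg.Spor.Fi22 :=
  MonoidHom.toMulEquiv phiHom phiHom phi_invol phi_invol

theorem phi_apply (y : Cfsg.Spor.Fi22) : phi y = phiHom y := rfl

theorem phi_wv (l : List ℕ) (hl : ∀ a ∈ l, a < 9) : phi (wv l) = wv (l.map swL) := by
  induction l with
  | nil => exact map_one phi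
  | cons a l ih =>
    have ha : a < 9 := hl a List.mem_cons_self
    have e1 : wv (a :: l) = gv a * wv l := rfl
    have e2 : wv ((a :: l).map swL) = gv (swL a) * wv (l.map swL) := rfl
    rw [e1, e2, map_mul, ih (fun b hb => hl b (List.mem_cons_of_mem _ hb)), phi_apply,
      gv_eq_of a (by rw [jc_eq]; exact ha), phiHom_of, vphi_gen a ha]

theorem lprod_gen (l : List ℕ) (hl : ∀ a ∈ l, a < 9) : (l.map lval).prod = wv l := by
  induction l with
  | nil => rfl
  | cons a l ih =>
    rw [List.map_cons, List.prod_cons, lval_gen a (hl a List.mem_cons_self),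
      ih (fun b hb => hl b (List.mem_cons_of_mem _ hb))]
    rfl

theorem wa_let : ∀ a ∈ unpackQ 1024 WA, a < 9 := (letChk_iff _ _).mp wa_ok

theorem phi_a : phi aE = wvQ WAP := by
  have h1 : aE = wv (unpackQ 1024 WA) := lprod_gen _ wa_let
  have hlet' : ∀ a ∈ unpackQ 1024 WAP, a < 9 := by
    rw [← wap_ok]
    intro a ha
    obtain ⟨b, hb, rfl⟩ := List.mem_map.mp ha
    exact swL_lt b (wa_let b hb)
  have h2 : wvQ WAP = wv (unpackQ 1024 WAP) := lprod_gen _ hlet'
  rw [h1, h2, phi_wv _ wa_let, wap_ok]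

theorem phi_not_inner : phi ∉ Cfsg.Inn Cfsg.Spor.Fi22 := by
  rintro ⟨h, hh⟩
  have e : h * aE * h⁻¹ = wvQ WAP := by
    rw [← phi_a, ← hh]
    rfl
  have ev : vE * wvQ WAP = aE ^ 2 * vE :=
    eq_of_base5 _ _ (fun b => wq WV (wq WAP b)) (fun b => tabAt TA2 (wq WV b))
      (fun b hb => by rw [pt_mul, pt_wvQ _ hb]; exact pt_wvQ _ (wq_lt _ hb))
      (fun b hb => by rw [pt_mul]; show pt (aE ^ 2) (pt (wvQ WV) b) = _
                      rw [pt_wvQ _ hb, tabA2 _ (wq_lt _ hb)]) vrel_ok
  have key : (vE * h) * aE = aE ^ 2 * (vE * h) := by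
    calc vE * h * aE = vE * (h * aE * h⁻¹) * h := by group
      _ = vE * wvQ WAP * h := by rw [e]
      _ = aE ^ 2 * vE * h := by rw [ev]
      _ = aE ^ 2 * (vE * h) := by rw [mul_assoc]
  exact no_sq_a _ key

/-! ### the conclusion -/

theorem card_fact : (Nat.card Cfsg.Spor.Fi22).factorization 13 = 1 := by
  rw [F22.card_eq, show (64561751654400 : ℕ) = 13 * 4966288588800 by norm_num,
    Nat.factorization_mul (by norm_num) (by norm_num)]
  have h1 : (13 : ℕ).factorization 13 = 1 :=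
    Nat.Prime.factorization_self (by norm_num)
  have h2 : (4966288588800 : ℕ).factorization 13 = 0 :=
    Nat.factorization_eq_zero_of_not_dvd (by norm_num)
  rw [Finsupp.add_apply, h1, h2]

/-- The outer automorphism group of `Fi22` has order 2. -/
theorem card_out_two : Nat.card (Cfsg.Out Cfsg.Spor.Fi22) = 2 := by
  have hfin := F22.finite
  exact SuzOut.card_out_abs13 card_fact order_a t_conj_a cent_a x_conj_t 7 13 excl ax_pow
    aax_pow gen_top phi phi_not_inner

end Cfsg.Agent.Helper56.Fi22Out
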